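/-
Homomorphisms of the sheaves of points of commutative group schemes; extensions with the same class.
-/
import Groth.Prelude.Def_CGrpSh
import Mathlib.Algebra.Homology.DerivedCategory.Ext.ExtClass
import Mathlib.Algebra.Homology.DerivedCategory.FullyFaithful
import Mathlib.CategoryTheory.Abelian.Basic

set_option autoImplicit false
set_option linter.style.haveILetI false

universe w v u

open CategoryTheory CategoryTheory.Limits MonoidalCategory CartesianMonoidalCategory MonObj AlgebraicGeometry Opposite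

noncomputable section

namespace Groth.L13.CGrpExt

section Abelian

variable {C : Type u} [Category.{v} C] [Abelian C] [HasExt.{w} C]

/-- Extensions with the same class are equivalent. -/
theorem exists_hom_of_extClass {F H G₁ G₂ : C} (f₁ : F ⟶ G₁) (g₁ : G₁ ⟶ H) (w₁ : f₁ ≫ g₁ = 0)
    (f₂ : F ⟶ G₂) (g₂ : G₂ ⟶ H) (w₂ : f₂ ≫ g₂ = 0)
    (h₁ : (ShortComplex.mk f₁ g₁ w₁).ShortExact) (h₂ : (ShortComplex.mk f₂ g₂ w₂).ShortExact)
    (h : h₁.extClass = h₂.extClass) : ∃ φ : G₁ ⟶ G₂, IsIso φ ∧ f₁ ≫ φ = f₂ ∧ φ ≫ g₂ = g₁ := by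
  letI := HasDerivedCategory.standard C
  have hδ : h₁.singleδ = h₂.singleδ := by
    rw [← ShortComplex.ShortExact.extClass_hom, ← ShortComplex.ShortExact.extClass_hom, h]
  obtain ⟨b, hb₁, hb₂⟩ := Pretriangulated.complete_distinguished_triangle_morphism₂ h₁.singleTriangle
    h₂.singleTriangle h₁.singleTriangle_distinguished h₂.singleTriangle_distinguished (𝟙 _) (𝟙 _)
    (by
      change h₁.singleδ ≫ (shiftFunctor (DerivedCategory C) (1 : ℤ)).map (𝟙 ((DerivedCategory.singleFunctor C 0).obj F)) =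
        𝟙 ((DerivedCategory.singleFunctor C 0).obj H) ≫ h₂.singleδ
      rw [CategoryTheory.Functor.map_id]
      exact (Category.comp_id _).trans (hδ.trans (Category.id_comp _).symm))
  obtain ⟨φ, rfl⟩ := (DerivedCategory.singleFunctor C 0).map_surjective b
  have e₁ : f₁ ≫ φ = f₂ := by
    apply (DerivedCategory.singleFunctor C 0).map_injective
    rw [Functor.map_comp]
    exact hb₁.trans (Category.id_comp _)
  have e₂ : φ ≫ g₂ = g₁ := by
    apply (DerivedCategory.singleFunctor C 0).map_injective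
    rw [Functor.map_comp]
    exact hb₂.symm.trans (Category.comp_id _)
  refine ⟨φ, ?_, e₁, e₂⟩
  let mor : ShortComplex.mk f₁ g₁ w₁ ⟶ ShortComplex.mk f₂ g₂ w₂ :=
    ShortComplex.homMk (𝟙 F) φ (𝟙 H) (by simp [e₁]) (by simp [e₂])
  haveI : IsIso mor.τ₁ := inferInstanceAs (IsIso (𝟙 F))
  haveI : IsIso mor.τ₃ := inferInstanceAs (IsIso (𝟙 H))
  exact ShortComplex.isIso₂_of_shortExact_of_isIso₁₃ mor h₁ h₂

end Abelian

section Pts

variable {S : Scheme.{u}} {K : Precoverage Scheme.{u}} [(QuotSh.J K S).Subcanonical]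
  {G H : Over S} [GrpObj G] [IsCommMonObj G] [GrpObj H] [IsCommMonObj H]

/-- The value of a map of sheaves of points at the universal point. -/
def homOf (φ : CGrpSh.pts K G ⟶ CGrpSh.pts K H) : G ⟶ H :=
  (φ.hom.app (op G) (ULift.up (Additive.ofMul (𝟙 G)))).down.toMul

theorem app_eq (φ : CGrpSh.pts K G ⟶ CGrpSh.pts K H) (T : Over S) (x : T ⟶ G) :
    φ.hom.app (op T) (ULift.up (Additive.ofMul x)) = ULift.up (Additive.ofMul (x ≫ homOf φ)) := by
  have h := ConcreteCategory.congr_hom (φ.hom.naturality x.op) (ULift.up (Additive.ofMul (𝟙 G)))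
  have e : (CGrpSh.pts K G).obj.map x.op (ULift.up (Additive.ofMul (𝟙 G))) = ULift.up (Additive.ofMul x) :=
    ULift.ext _ _ (congrArg Additive.ofMul (Category.comp_id x))
  rw [← e]
  exact h.trans rfl

instance isMonHom_homOf (φ : CGrpSh.pts K G ⟶ CGrpSh.pts K H) : IsMonHom (homOf φ) where
  one_hom := by
    have h := app_eq φ (𝟙_ (Over S)) (1 : 𝟙_ (Over S) ⟶ G)
    have h0 : φ.hom.app (op (𝟙_ (Over S))) (ULift.up (Additive.ofMul (1 : 𝟙_ (Over S) ⟶ G))) = 0 :=
      map_zero (φ.hom.app (op (𝟙_ (Over S)))).hom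
    rw [h0] at h
    have h1 : (1 : 𝟙_ (Over S) ⟶ H) = (1 : 𝟙_ (Over S) ⟶ G) ≫ homOf φ :=
      congrArg (fun z => Additive.toMul (ULift.down z)) h
    rw [Hom.one_def, Hom.one_def, toUnit_unique (toUnit (𝟙_ (Over S))) (𝟙 _), Category.id_comp, Category.id_comp] at h1
    exact h1.symm
  mul_hom := by
    have h := app_eq φ (G ⊗ G) (fst G G * snd G G)
    have h0 : φ.hom.app (op (G ⊗ G)) (ULift.up (Additive.ofMul (fst G G * snd G G))) =
        φ.hom.app (op (G ⊗ G)) (ULift.up (Additive.ofMul (fst G G))) +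
          φ.hom.app (op (G ⊗ G)) (ULift.up (Additive.ofMul (snd G G))) :=
      map_add (φ.hom.app (op (G ⊗ G))).hom (ULift.up (Additive.ofMul (fst G G))) (ULift.up (Additive.ofMul (snd G G)))
    rw [h0, app_eq, app_eq] at h
    have h1 : (fst G G ≫ homOf φ) * (snd G G ≫ homOf φ) = (fst G G * snd G G) ≫ homOf φ :=
      congrArg (fun z => Additive.toMul (ULift.down z)) h
    rw [Hom.mul_def, Hom.mul_def, lift_fst_snd, Category.id_comp, lift_fst_comp_snd_comp] at h1
    exact h1.symm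

theorem ptsMap_homOf (φ : CGrpSh.pts K G ⟶ CGrpSh.pts K H) : CGrpSh.ptsMap K (homOf φ) = φ :=
  Sheaf.hom_ext (NatTrans.ext (funext fun T => AddCommGrpCat.ext fun x => (app_eq φ (unop T) x.down.toMul).symm))

theorem ptsMap_injective {p q : G ⟶ H} [IsMonHom p] [IsMonHom q] (h : CGrpSh.ptsMap K p = CGrpSh.ptsMap K q) :
    p = q := by
  have h' := congrArg (fun φ : CGrpSh.pts K G ⟶ CGrpSh.pts K H => homOf φ) h
  have hp : homOf (CGrpSh.ptsMap K p) = p := Category.id_comp p
  have hq : homOf (CGrpSh.ptsMap K q) = q := Category.id_comp q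
  exact hp.symm.trans (h'.trans hq)

end Pts

end Groth.L13.CGrpExt
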