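/-
Properties descending along coverings for scheme descent.
-/
import Groth.Agent.L20.SchDesc.Cov
import Groth.Agent.L22.AffineDescent
import Groth.Agent.L23.Descent
import Groth.Agent.L23.QFDescent
import Mathlib.AlgebraicGeometry.Morphisms.LocalFlatDescent

set_option autoImplicit false
set_option linter.style.haveILetI false
set_option backward.isDefEq.respectTransparency.types false

universe u

open CategoryTheory CategoryTheory.Limits AlgebraicGeometry

namespace Groth.L13.CGrpExt

instance descendsAlong_quasiSeparated :
    MorphismProperty.DescendsAlong (@QuasiSeparated : MorphismProperty Scheme.{u})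
      (@Surjective ⊓ @Flat ⊓ @QuasiCompact) := by
  rw [quasiSeparated_eq_diagonal_is_quasiCompact]
  infer_instance

instance descendsAlong_isAffineHom :
    MorphismProperty.DescendsAlong (@IsAffineHom : MorphismProperty Scheme.{u})
      (@Surjective ⊓ @Flat ⊓ @QuasiCompact) := by
  refine MorphismProperty.DescendsAlong.mk' fun {X Y Z} f g _ hf hp => ?_
  haveI : Surjective f := hf.1.1
  haveI : Flat f := hf.1.2
  haveI : QuasiCompact f := hf.2
  haveI : IsAffineHom (pullback.fst f g) := hp
  haveI : QuasiCompact g := MorphismProperty.of_isPullback_of_descendsAlong (P := @QuasiCompact)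
    (IsPullback.of_hasPullback f g) hf inferInstance
  haveI : QuasiSeparated g := MorphismProperty.of_isPullback_of_descendsAlong (P := @QuasiSeparated)
    (IsPullback.of_hasPullback f g) hf inferInstance
  exact Groth.L22.AffDesc.isAffineHom_of_isPullback (IsPullback.of_hasPullback f g).flip

/-- A property local in the fpqc and fppf topologies descends along coverings. -/
theorem of_isPullback_cov (P : MorphismProperty Scheme.{u}) [P.IsStableUnderBaseChange]
    [P.DescendsAlong (@Surjective ⊓ @Flat ⊓ @QuasiCompact)]
    [P.DescendsAlong (@Surjective ⊓ @Flat ⊓ @LocallyOfFinitePresentation)]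
    {V X A S : Scheme.{u}} {f : V ⟶ X} {q : V ⟶ A} {p : X ⟶ S} {a : A ⟶ S}
    [Groth.L20.SchDesc.Cov p] (sq : IsPullback f q p a) (hf : P f) : P a := by
  obtain ⟨Y, Z, h, e, z, he, hef, hes, heq, hzf, hzs, hzl⟩ := Groth.L20.SchDesc.Cov.exists_chart (p := p)
  have h1 : P (pullback.snd f h) := MorphismProperty.pullback_snd _ _ hf
  have big : IsPullback (pullback.snd f h) (pullback.fst f h ≫ q) (e ≫ z) a :=
    he ▸ (IsPullback.of_hasPullback f h).flip.paste_vert sq
  let l := (IsPullback.of_hasPullback z a).lift (pullback.snd f h ≫ e) (pullback.fst f h ≫ q)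
    (by rw [Category.assoc]; exact big.w)
  have top : IsPullback (pullback.snd f h) l e (pullback.fst z a) := by
    refine IsPullback.of_bot ?_ ((IsPullback.of_hasPullback z a).lift_fst _ _ _).symm (IsPullback.of_hasPullback z a)
    rw [(IsPullback.of_hasPullback z a).lift_snd]
    exact big
  have h2 : P (pullback.fst z a) :=
    MorphismProperty.of_isPullback_of_descendsAlong (Q := @Surjective ⊓ @Flat ⊓ @QuasiCompact) top
      ⟨⟨hes, hef⟩, heq⟩ h1
  exact MorphismProperty.of_isPullback_of_descendsAlong
    (Q := @Surjective ⊓ @Flat ⊓ @LocallyOfFinitePresentation) (IsPullback.of_hasPullback z a) ⟨⟨hzs, hzf⟩, hzl⟩ h2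

end Groth.L13.CGrpExt
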